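import Cfsg.Agent.FusedSylow.Basic

/-!
No non-abelian Sylow subgroup of exponent `p` when `p`-subgroups of equal order are conjugate.
-/

set_option autoImplicit false
set_option linter.style.haveILetI false

namespace Cfsg.Lib.FusedSylow

open Subgroup

universe u

variable {G : Type u} [Group G] [Finite G]

/-- in a group of order `p ^ 3` which is not abelian the centre has order `p` and contains all commutators -/
theorem cube_facts {p : ℕ} [hp : Fact p.Prime] {R : Type u} [Group R] [Finite R] (hR : Nat.card R = p ^ 3)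
    (hna : ¬ IsMulCommutative R) :
    Nat.card (center R) = p ∧ ∀ a b : R, a * b * a⁻¹ * b⁻¹ ∈ center R := by
  have hP : IsPGroup p R := IsPGroup.of_card hR
  obtain ⟨j, hj⟩ := IsPGroup.iff_card.1 (hP.to_subgroup (center R))
  have hncyc : ¬ IsCyclic (R ⧸ center R) := fun _ =>
    hna ⟨⟨commutative_of_cyclic_center_quotient (QuotientGroup.mk' (center R))
      (by rw [QuotientGroup.ker_mk'])⟩⟩
  haveI : Nontrivial R := by
    by_contra h
    rw [not_nontrivial_iff_subsingleton] at h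
    exact hna ⟨⟨fun a b => Subsingleton.elim _ _⟩⟩
  have hj1 : 1 ≤ j := by
    haveI := hP.center_nontrivial
    by_contra h
    rw [show j = 0 by omega, pow_zero] at hj
    exact absurd hj Finite.one_lt_card.ne'
  have hprod := card_eq_card_quotient_mul_card_subgroup (center R)
  rw [hR, hj] at hprod
  have hj3 : j ≤ 3 := (Nat.pow_dvd_pow_iff_le_right hp.out.one_lt).1 (hR ▸ hj ▸ card_subgroup_dvd_card (center R))
  have hq : Nat.card (R ⧸ center R) = p ^ (3 - j) :=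
    mul_right_cancel₀ (pow_ne_zero j hp.out.ne_zero) (by rw [← hprod, ← pow_add, Nat.sub_add_cancel hj3])
  have hj_eq : j = 1 := by
    by_contra hne
    refine hncyc ?_
    rcases (show j = 2 ∨ j = 3 by omega) with rfl | rfl
    · exact isCyclic_of_prime_card (hq.trans (pow_one p))
    · haveI := (Nat.card_eq_one_iff_unique.1 (hq.trans (pow_zero p))).1
      exact isCyclic_of_subsingleton
  subst hj_eq
  refine ⟨by rw [hj, pow_one], fun a b => ?_⟩
  haveI := IsPGroup.isMulCommutative_of_card_eq_prime_sq hq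
  rw [← QuotientGroup.eq_one_iff, QuotientGroup.mk_mul, QuotientGroup.mk_mul, QuotientGroup.mk_mul,
    QuotientGroup.mk_inv, QuotientGroup.mk_inv, mul_comm' (a : R ⧸ center R) b]
  group

/-- an element conjugating `x` to `x * z` and fixing `z` -/
theorem exists_transvection {p : ℕ} [hp : Fact p.Prime] {R : Subgroup G} (hR : Nat.card R = p ^ 3)
    (hna : ¬ IsMulCommutative R) {x z : G} (hx : x ∈ R) (hz : z ∈ R) (hzo : orderOf z = p)
    (hzc : ∀ y ∈ R, y * z = z * y) (hxc : ∃ y ∈ R, y * x ≠ x * y) :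
    ∃ a ∈ R, a * x * a⁻¹ = x * z ∧ a * z * a⁻¹ = z := by
  obtain ⟨hZ, hcomm⟩ := cube_facts hR hna
  obtain ⟨y, hy, hyx⟩ := hxc
  have hgen : zpowers (⟨z, hz⟩ : R) = center R := eq_of_le_of_card_ge
    (zpowers_le.2 (mem_center_iff.2 fun w => Subtype.ext (hzc w w.2)))
    (by rw [hZ, Nat.card_zpowers, Subgroup.orderOf_mk, hzo])
  have hm := hcomm ⟨x, hx⟩⁻¹ ⟨y, hy⟩
  rw [← hgen] at hm
  obtain ⟨i, hi⟩ := mem_zpowers_iff.1 hm
  have hi' : z ^ i = x⁻¹ * y * x * y⁻¹ := by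
    have h := congrArg Subtype.val hi
    simpa using h
  have hbase : y * x * y⁻¹ = x * z ^ i := by rw [hi']; group
  have hzfix : ∀ n : ℕ, y ^ n * z * (y ^ n)⁻¹ = z := fun n => by
    rw [hzc _ (pow_mem hy n), mul_inv_cancel_right]
  have hpow : ∀ n : ℕ, y ^ n * x * (y ^ n)⁻¹ = x * z ^ (i * n) := by
    intro n
    induction n with
    | zero => simp
    | succ n ih =>
      calc y ^ (n + 1) * x * (y ^ (n + 1))⁻¹ = y ^ n * (y * x * y⁻¹) * (y ^ n)⁻¹ := by
            rw [pow_succ]; group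
        _ = (y ^ n * x * (y ^ n)⁻¹) * (y ^ n * z * (y ^ n)⁻¹) ^ i := by
            rw [hbase, conj_zpow]; group
        _ = x * z ^ (i * (n + 1 : ℕ)) := by
            rw [ih, hzfix, mul_assoc, ← zpow_add]; push_cast; ring_nf
  have hip : ¬ (p : ℤ) ∣ i := by
    intro hdvd
    obtain ⟨m, rfl⟩ := hdvd
    rw [zpow_mul, zpow_natCast, ← hzo, pow_orderOf_eq_one, one_zpow, mul_one] at hbase
    exact hyx (mul_inv_eq_iff_eq_mul.1 hbase)
  obtain ⟨u, v, huv⟩ := ((Nat.prime_iff_prime_int.1 hp.out).coprime_iff_not_dvd.2 hip).symm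
  refine ⟨y ^ (u % p).toNat, pow_mem hy _, ?_, hzfix _⟩
  rw [hpow]
  congr 1
  have hu : ((u % p).toNat : ℤ) = u % p :=
    Int.toNat_of_nonneg (Int.emod_nonneg _ (by exact_mod_cast hp.out.ne_zero))
  have : i * (u % p) = 1 + (p : ℤ) * (-v - i * (u / p)) := by
    linear_combination huv + i * (Int.emod_add_mul_ediv u p)
  rw [hu, this, zpow_add, zpow_one, zpow_mul, zpow_natCast, ← hzo, pow_orderOf_eq_one, one_zpow, mul_one]

theorem abelian_of_exponent (hD : Fused G) {p : ℕ} [hp : Fact p.Prime] (P : Sylow p G)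
    (hexp : ∀ g : (P : Subgroup G), g ^ p = 1) : IsMulCommutative (P : Subgroup G) := by
  by_contra hna
  have hp2 : p ≠ 2 := fun h => hna ⟨⟨Cfsg.Lib.OrderSquare.comm_of_exp_two (fun g => h ▸ hexp g)⟩⟩
  obtain ⟨⟨H, hH, hHna⟩, h4⟩ := Cfsg.Lib.OrderSquare.both_cube hexp hna
  obtain ⟨n, hn⟩ := IsPGroup.iff_card.1 P.2
  have hcard : Nat.card (P : Subgroup G) = p ^ 3 := by
    rw [hn]
    congr 1
    have h3 : 3 ≤ n := (Nat.pow_dvd_pow_iff_le_right hp.out.one_lt).1 (hH ▸ hn ▸ card_subgroup_dvd_card H)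
    by_contra hne
    obtain ⟨A, hA, hAc⟩ := h4 (hn ▸ Nat.pow_le_pow_right hp.out.pos (by omega))
    obtain ⟨e⟩ := hD.mulEquiv hp.out _ P.2 A H (hA.trans hH.symm)
    haveI := hAc
    exact hHna ⟨⟨fun a b => e.symm.injective (by rw [map_mul, map_mul, mul_comm'])⟩⟩
  obtain ⟨hZ, -⟩ := cube_facts hcard hna
  obtain ⟨⟨⟨z, hzP⟩, hzc⟩, hzo⟩ := exists_prime_orderOf_dvd_card' p hZ.symm.dvd
  rw [Subgroup.orderOf_mk, Subgroup.orderOf_mk] at hzo
  have hzc' : ∀ y ∈ (P : Subgroup G), y * z = z * y := fun y hy =>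
    congrArg Subtype.val (mem_center_iff.1 hzc ⟨y, hy⟩)
  obtain ⟨x, hxP, y₁, hy₁, hyx⟩ : ∃ x ∈ (P : Subgroup G), ∃ y ∈ (P : Subgroup G), y * x ≠ x * y := by
    by_contra h
    push Not at h
    exact hna ⟨⟨fun a b => Subtype.ext (h b b.2 a a.2)⟩⟩
  have hxo : orderOf x = p := orderOf_eq_prime (congrArg Subtype.val (hexp ⟨x, hxP⟩))
    (fun h => hyx (by rw [h, mul_one, one_mul]))
  -- a Sylow subgroup with `x` central, containing `z`
  obtain ⟨g, hg⟩ := hD p hp.out (zpowers z) (zpowers x)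
    (IsPGroup.of_card (n := 1) (by rw [Nat.card_zpowers, hzo, pow_one]))
    (IsPGroup.of_card (n := 1) (by rw [Nat.card_zpowers, hxo, pow_one]))
    (by rw [Nat.card_zpowers, Nat.card_zpowers, hzo, hxo])
  obtain ⟨z', hz', hzx⟩ := (hg ▸ mem_zpowers x : x ∈ (zpowers z).map (MulAut.conj g).toMonoidHom)
  obtain ⟨k, rfl⟩ := mem_zpowers_iff.1 hz'
  have hgP : (P : Subgroup G).map (MulAut.conj g).toMonoidHom ≤ centralizer ({x} : Set G) := by
    rintro _ ⟨y, hy, rfl⟩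
    rw [mem_centralizer_singleton_iff, ← hzx]
    simp only [MulEquiv.coe_toMonoidHom]
    rw [← map_mul, ← map_mul, ((Commute.zpow_right (hzc' y hy) k)).eq]
  set C := centralizer ({x} : Set G)
  have hE : zpowers z ≤ C := zpowers_le.2 (mem_centralizer_singleton_iff.2 (hzc' x hxP).symm)
  obtain ⟨Q, hQ⟩ := IsPGroup.exists_le_sylow (P := (zpowers z).subgroupOf C)
    ((IsPGroup.of_card (n := 1) (by rw [Nat.card_zpowers, hzo, pow_one]) : IsPGroup p (zpowers z)).of_equiv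
      (subgroupOfEquivOfLe hE).symm)
  set R := (Q : Subgroup C).map C.subtype
  have hRp : IsPGroup p R := Q.2.map _
  obtain ⟨P₁, hP₁⟩ := hRp.exists_le_sylow
  have hP1card : Nat.card (P₁ : Subgroup G) = p ^ 3 := by
    rw [← hcard, P₁.card_eq_multiplicity, P.card_eq_multiplicity]
  have hRcard : p ^ 3 ≤ Nat.card R := by
    have h1 : p ^ 3 ∣ Nat.card C := by
      rw [← hcard, ← card_map_of_injective (f := (MulAut.conj g).toMonoidHom) (MulAut.conj g).injective]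
      exact card_dvd_of_le hgP
    rw [card_map_of_injective C.subtype_injective]
    exact Nat.le_of_dvd Nat.card_pos (Q.pow_dvd_card_of_pow_dvd_card h1)
  have hRP : R = (P₁ : Subgroup G) := eq_of_le_of_card_ge hP₁ (hP1card ▸ hRcard)
  have hR3 : Nat.card R = p ^ 3 := hRP ▸ hP1card
  have hRna : ¬ IsMulCommutative R := by
    intro hc
    obtain ⟨g', hg'⟩ := hD p hp.out R (P : Subgroup G) hRp P.2 (hR3.trans hcard.symm)
    refine hna ⟨⟨?_⟩⟩
    rintro ⟨a, ha⟩ ⟨b, hb⟩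
    refine Subtype.ext ?_
    show a * b = b * a
    rw [hg'] at ha hb
    obtain ⟨a', ha', rfl⟩ := ha
    obtain ⟨b', hb', rfl⟩ := hb
    rw [← map_mul, ← map_mul]
    exact congrArg _ (congrArg Subtype.val (mul_comm' (⟨a', ha'⟩ : R) ⟨b', hb'⟩))
  have hzR : z ∈ R := ⟨⟨z, hE (mem_zpowers z)⟩, hQ (show z ∈ zpowers z from mem_zpowers z), rfl⟩
  have hxc : ∀ y ∈ R, y * x = x * y := by
    rintro _ ⟨y, -, rfl⟩
    exact mem_centralizer_singleton_iff.1 y.2
  have hxR : x ∈ R := by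
    rw [hRP]
    refine (P₁.is_maximal' (Q := R ⊔ zpowers x) ?_ (hRP ▸ le_sup_left)) ▸ mem_sup_right (mem_zpowers x)
    refine hRp.to_sup_of_normal_right' (IsPGroup.of_card (n := 1) (by rw [Nat.card_zpowers, hxo, pow_one])) ?_
    intro y hy
    rw [mem_normalizer_iff]
    intro w
    have hcw : ∀ v ∈ zpowers x, y * v * y⁻¹ = v := fun v hv => by
      obtain ⟨i, rfl⟩ := mem_zpowers_iff.1 hv
      rw [(Commute.zpow_right (hxc y hy) i).eq, mul_inv_cancel_right]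
    refine ⟨fun hw => by rw [hcw w hw]; exact hw, fun hw => ?_⟩
    have h := hcw _ hw
    rw [mul_left_inj, mul_right_inj] at h
    exact h ▸ hw
  obtain ⟨a, -, hax, haz⟩ := exists_transvection hcard hna hxP hzP hzo hzc' ⟨y₁, hy₁, hyx⟩
  have hx'o : orderOf x⁻¹ = p := by rw [orderOf_inv, hxo]
  have hzn : ∃ y ∈ R, y * z ≠ z * y := by
    by_contra h
    push Not at h
    obtain ⟨hZ', -⟩ := cube_facts hR3 hRna
    have hgen : zpowers (⟨x, hxR⟩ : R) = center R := eq_of_le_of_card_ge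
      (zpowers_le.2 (mem_center_iff.2 fun w => Subtype.ext (hxc w w.2)))
      (by rw [hZ', Nat.card_zpowers, Subgroup.orderOf_mk, hxo])
    obtain ⟨i, hi⟩ := mem_zpowers_iff.1
      (hgen.symm ▸ mem_center_iff.2 (fun w => Subtype.ext (h w w.2)) : (⟨z, hzR⟩ : R) ∈ zpowers ⟨x, hxR⟩)
    have hi' : x ^ i = z := by simpa using congrArg Subtype.val hi
    have hxz : zpowers x = zpowers z := (eq_of_le_of_card_ge (zpowers_le.2 (hi' ▸ zpow_mem (mem_zpowers x) i))
      (by rw [Nat.card_zpowers, Nat.card_zpowers, hxo, hzo])).symm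
    obtain ⟨j, hj⟩ := mem_zpowers_iff.1 (hxz ▸ mem_zpowers x : x ∈ zpowers z)
    exact hyx (by rw [← hj]; exact (Commute.zpow_right (hzc' y₁ hy₁) j).eq)
  obtain ⟨b, -, hbz, hbx⟩ := exists_transvection hR3 hRna hzR (inv_mem hxR) hx'o
    (fun y hy => ((Commute.inv_right (hxc y hy))).eq) hzn
  have hbx' : b * x * b⁻¹ = x := by
    have h := congrArg (·⁻¹) hbx
    simpa [mul_inv_rev, mul_assoc] using h
  set w₀ := a * b * a with hw₀
  have hc : ∀ u v : G, w₀ * (u * v) * w₀⁻¹ = (w₀ * u * w₀⁻¹) * (w₀ * v * w₀⁻¹) := fun u v => by group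
  have hxz' : x * z = z * x := hzc' x hxP
  have h1 : w₀ * x * w₀⁻¹ = z := by
    calc w₀ * x * w₀⁻¹ = a * (b * (a * x * a⁻¹) * b⁻¹) * a⁻¹ := by rw [hw₀]; group
      _ = a * ((b * x * b⁻¹) * (b * z * b⁻¹)) * a⁻¹ := by rw [hax]; group
      _ = a * z * a⁻¹ := by
        rw [hbx', hbz, show x * (z * x⁻¹) = z by rw [← mul_assoc, hxz', mul_inv_cancel_right]]
      _ = z := haz
  have h2 : w₀ * z * w₀⁻¹ = x⁻¹ := by
    calc w₀ * z * w₀⁻¹ = a * (b * (a * z * a⁻¹) * b⁻¹) * a⁻¹ := by rw [hw₀]; group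
      _ = a * (z * x⁻¹) * a⁻¹ := by rw [haz, hbz]
      _ = (a * z * a⁻¹) * (a * x * a⁻¹)⁻¹ := by group
      _ = x⁻¹ := by rw [haz, hax]; group
  have hneg : ∀ m : ℕ, w₀ ^ (4 * m + 2) * x * (w₀ ^ (4 * m + 2))⁻¹ = x⁻¹ := by
    have h3 : w₀ ^ 2 * x * (w₀ ^ 2)⁻¹ = x⁻¹ := by
      calc w₀ ^ 2 * x * (w₀ ^ 2)⁻¹ = w₀ * (w₀ * x * w₀⁻¹) * w₀⁻¹ := by rw [pow_two]; group
        _ = x⁻¹ := by rw [h1, h2]
    intro m
    induction m with
    | zero => simpa using h3
    | succ m ih =>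
      calc w₀ ^ (4 * (m + 1) + 2) * x * (w₀ ^ (4 * (m + 1) + 2))⁻¹
          = w₀ ^ 2 * (w₀ ^ 2 * (w₀ ^ (4 * m + 2) * x * (w₀ ^ (4 * m + 2))⁻¹) * (w₀ ^ 2)⁻¹) * (w₀ ^ 2)⁻¹ := by
            rw [show 4 * (m + 1) + 2 = 2 + (2 + (4 * m + 2)) by omega, pow_add, pow_add]; group
        _ = w₀ ^ 2 * (w₀ ^ 2 * x * (w₀ ^ 2)⁻¹)⁻¹ * (w₀ ^ 2)⁻¹ := by rw [ih]; group
        _ = x⁻¹ := by rw [h3, inv_inv, h3]
  obtain ⟨k', q, hq, hw⟩ := Nat.exists_eq_two_pow_mul_odd (orderOf_pos w₀).ne'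
  have hwo : orderOf (w₀ ^ q) = 2 ^ k' := by
    rw [orderOf_pow_of_dvd (by rintro rfl; exact absurd hq (by decide)) (hw ▸ dvd_mul_left q _), hw,
      Nat.mul_div_cancel _ hq.pos]
  have hinv : (w₀ ^ q) ^ 2 * x * ((w₀ ^ q) ^ 2)⁻¹ = x⁻¹ := by
    obtain ⟨m, rfl⟩ := hq
    rw [← pow_mul, show (2 * m + 1) * 2 = 4 * m + 2 by ring]
    exact hneg m
  obtain ⟨N, hN, hNs, hxN⟩ := exists_solvable_normal hD (hxo.symm ▸ hp.out.odd_of_ne_two hp2)
    (fun h => hyx (by rw [h, mul_one, one_mul])) hwo hinv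
  haveI := hN
  haveI := hNs
  exact hna (abelian_of_solvable_normal hD P hexp hxN hxo)

end Cfsg.Lib.FusedSylow
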