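import Cfsg.Agent.PGroups.OrderSquare
import Cfsg.Agent.Components.PComponents
import Cfsg.Agent.S0201
import Cfsg.Agent.S0205

/-!
Sylow subgroups of a group in which `p`-subgroups of equal order are conjugate.
-/

set_option autoImplicit false
set_option linter.unusedSectionVars false
set_option linter.style.haveILetI false

namespace Cfsg.Lib.FusedSylow

open Subgroup Cfsg.Lib.Components

universe u

variable {G : Type u} [Group G] [Finite G]

/-- `p`-subgroups of equal order are conjugate, for every prime. -/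
def Fused (G : Type u) [Group G] : Prop :=
  ∀ p : ℕ, p.Prime → ∀ H K : Subgroup G, IsPGroup p H → IsPGroup p K → Nat.card H = Nat.card K →
    ∃ g : G, K = H.map (MulAut.conj g).toMonoidHom

theorem Fused.mem_of_order_prime (hD : Fused G) {p : ℕ} (hp : p.Prime) {N : Subgroup G} [hN : N.Normal]
    {x y : G} (hx : x ∈ N) (hxo : orderOf x = p) (hyo : orderOf y = p) : y ∈ N := by
  haveI : Fact p.Prime := ⟨hp⟩
  obtain ⟨g, hg⟩ := hD p hp (zpowers x) (zpowers y)
    (IsPGroup.of_card (n := 1) (by rw [Nat.card_zpowers, hxo, pow_one]))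
    (IsPGroup.of_card (n := 1) (by rw [Nat.card_zpowers, hyo, pow_one]))
    (by rw [Nat.card_zpowers, Nat.card_zpowers, hxo, hyo])
  obtain ⟨z, hz, he⟩ := (hg ▸ mem_zpowers y : y ∈ (zpowers x).map (MulAut.conj g).toMonoidHom)
  rw [← he]
  exact hN.conj_mem _ (zpowers_le.2 hx hz) g

theorem Fused.mulEquiv (hD : Fused G) {p : ℕ} (hp : p.Prime) (P : Subgroup G) (hP : IsPGroup p P)
    (H K : Subgroup P) (h : Nat.card H = Nat.card K) : Nonempty (H ≃* K) := by
  haveI : Fact p.Prime := ⟨hp⟩
  obtain ⟨g, hg⟩ := hD p hp (H.map P.subtype) (K.map P.subtype)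
    ((hP.to_subgroup H).map P.subtype) ((hP.to_subgroup K).map P.subtype)
    (by rw [card_map_of_injective P.subtype_injective, card_map_of_injective P.subtype_injective, h])
  exact ⟨((H.equivMapOfInjective _ P.subtype_injective).trans
    ((equivMapOfInjective (H.map P.subtype) _ (MulAut.conj g).injective).trans
      (MulEquiv.subgroupCongr hg.symm))).trans (K.equivMapOfInjective _ P.subtype_injective).symm⟩

/-- a cyclic, elementary abelian or quaternion Sylow 2-subgroup -/
theorem sylow_two (hD : Fused G) (S : Sylow 2 G) :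
    IsCyclic S ∨ (∀ g : (S : Subgroup G), g ^ 2 = 1) ∨ Nonempty ((S : Subgroup G) ≃* QuaternionGroup 2) := by
  haveI : Fact (Nat.Prime 2) := ⟨Nat.prime_two⟩
  rcases Cfsg.Lib.OrderSquare.trichotomy S.2 (Cfsg.Lib.OrderSquare.hyp_of_conj (p := 2) (S : Subgroup G)
    fun A B _ _ hA hB => hD 2 Nat.prime_two A B (IsPGroup.of_card hA) (IsPGroup.of_card hB) (hA.trans hB.symm))
    with h | ⟨-, k, ⟨e⟩⟩ | h
  · exact Or.inl h
  · rcases k with _ | _ | n
    · haveI : IsCyclic (QuaternionGroup (2 ^ 0)) := QuaternionGroup.quaternionGroup_one_isCyclic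
      exact Or.inl (e.isCyclic.2 inferInstance)
    · exact Or.inr (Or.inr ⟨e⟩)
    exfalso
    set a : (S : Subgroup G) := e.symm (QuaternionGroup.a 1) with ha
    set x : (S : Subgroup G) := e.symm (QuaternionGroup.xa 0) with hx
    have hao : orderOf a = 2 ^ (n + 3) := by
      rw [ha, MulEquiv.orderOf_eq, QuaternionGroup.orderOf_a_one]
      ring
    have hxo : orderOf x = 4 := by rw [hx, MulEquiv.orderOf_eq, QuaternionGroup.orderOf_xa]
    have hcard : Nat.card (S : Subgroup G) = 2 ^ (n + 4) := by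
      rw [Nat.card_congr e.toEquiv, Nat.card_eq_fintype_card, QuaternionGroup.card]
      ring
    obtain ⟨M, hM, hxM⟩ := Sylow.exists_subgroup_card_pow_prime_le (G := (S : Subgroup G)) 2
      (hcard ▸ pow_dvd_pow 2 (Nat.le_succ (n + 3))) (zpowers x)
      (show Nat.card (zpowers x) = 2 ^ 2 by rw [Nat.card_zpowers, hxo]; norm_num) (by omega)
    obtain ⟨f⟩ := hD.mulEquiv Nat.prime_two _ S.2 (zpowers a) M (by rw [Nat.card_zpowers, hao, hM])
    haveI : IsCyclic M := f.isCyclic.1 inferInstance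
    obtain ⟨g, hg⟩ := IsCyclic.exists_generator (α := M)
    have hgo : orderOf (g : (S : Subgroup G)) = 2 ^ (n + 3) := by
      rw [Subgroup.orderOf_coe, orderOf_eq_card_of_forall_mem_zpowers hg, hM]
    obtain ⟨i, hi⟩ := mem_zpowers_iff.1 (hg ⟨x, hxM (mem_zpowers x)⟩)
    have hi' : (e (g : (S : Subgroup G))) ^ i = QuaternionGroup.xa 0 := by
      rw [← map_zpow, ← Subgroup.coe_zpow, hi]
      exact e.apply_symm_apply _
    rcases hgc : e (g : (S : Subgroup G)) with l | l
    · have hmem : QuaternionGroup.xa (0 : ZMod (2 * 2 ^ (n + 1 + 1))) ∈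
          zpowers (QuaternionGroup.a (1 : ZMod (2 * 2 ^ (n + 1 + 1)))) := by
        rw [← hi', hgc]
        refine zpow_mem ?_ i
        exact ⟨l.val, by simp only [zpow_natCast, QuaternionGroup.a_one_pow, ZMod.natCast_zmod_val]⟩
      obtain ⟨j, hj⟩ := mem_powers_iff_mem_zpowers.2 hmem
      simp only [QuaternionGroup.a_one_pow] at hj
      cases hj
    · have h4 : orderOf (e (g : (S : Subgroup G))) = 4 := by rw [hgc, QuaternionGroup.orderOf_xa]
      rw [MulEquiv.orderOf_eq, hgo] at h4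
      have : 2 ^ 3 ≤ 2 ^ (n + 3) := Nat.pow_le_pow_right (by norm_num) (by omega)
      omega
  · exact Or.inr (Or.inl h)

/-- an element of odd prime order inverted by a square of a 2-element lies in a solvable normal subgroup -/
theorem exists_solvable_normal (hD : Fused G) {x w : G} (hxodd : Odd (orderOf x)) (hx1 : x ≠ 1)
    {k : ℕ} (hw : orderOf w = 2 ^ k) (hinv : w ^ 2 * x * (w ^ 2)⁻¹ = x⁻¹) :
    ∃ N : Subgroup G, N.Normal ∧ Group.IsSolvable N ∧ x ∈ N := by
  haveI : Fact (Nat.Prime 2) := ⟨Nat.prime_two⟩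
  obtain ⟨S, hS⟩ := IsPGroup.exists_le_sylow (IsPGroup.of_card (n := k) (by rw [Nat.card_zpowers, hw]) :
    IsPGroup 2 (zpowers w))
  have hwS : w ∈ (S : Subgroup G) := hS (mem_zpowers w)
  have hne : w ^ 2 ≠ 1 := fun e => by
    rw [e, one_mul, inv_one, mul_one] at hinv
    have h2 : orderOf x ∣ 2 := orderOf_dvd_of_pow_eq_one (by rw [pow_two]; exact mul_eq_one_iff_eq_inv.2 hinv)
    rcases (Nat.dvd_prime Nat.prime_two).1 h2 with h | h
    · exact hx1 (orderOf_eq_one_iff.1 h)
    · rw [h] at hxodd; exact absurd hxodd (by decide)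
  have hwS1 : (⟨w, hwS⟩ : (S : Subgroup G)) ^ 2 ≠ 1 := fun e => hne (congrArg Subtype.val e)
  rcases sylow_two hD S with hc | he | ⟨⟨e⟩⟩
  · -- normal 2-complement
    have h2 : 2 ∣ Nat.card G := by
      obtain ⟨_ | k', rfl⟩ : ∃ k', k = k' := ⟨k, rfl⟩
      · rw [pow_zero, orderOf_eq_one_iff] at hw
        exact absurd (by rw [hw, one_pow]) hne
      · exact (hw ▸ dvd_pow_self 2 (by omega) : 2 ∣ orderOf w).trans (orderOf_dvd_natCard w)
    have hN := IsCyclic.normalizer_le_centralizer ((Nat.minFac_eq_two_iff _).2 h2) hc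
    have hK := MonoidHom.ker_transferSylow_isComplement' S hN
    set f := MonoidHom.transferSylow S hN
    have hodd : Odd (Nat.card f.ker) := by
      rw [Nat.odd_iff, ← Nat.two_dvd_ne_zero, ← hK.index_eq_card]
      exact S.not_dvd_index
    refine ⟨f.ker, inferInstance, Cfsg.Agent.S0205.result hodd, ?_⟩
    obtain ⟨m, hm⟩ := IsPGroup.iff_orderOf.1 S.2 (f x)
    have h1 : orderOf (f x) ∣ orderOf x := orderOf_map_dvd f x
    rw [hm] at h1
    rw [MonoidHom.mem_ker, ← orderOf_eq_one_iff, hm,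
      Nat.eq_one_of_dvd_coprimes ((Nat.coprime_two_left.2 hxodd).pow_left m) dvd_rfl h1]
  · exact absurd (he _) hwS1
  · -- Brauer-Suzuki
    refine ⟨Cfsg.oddCore G, pPrimeCore_normal 2 G, Cfsg.Agent.S0205.result
      (Nat.coprime_two_right.1 (coprime_card_pPrimeCore 2)), ?_⟩
    haveI hOn : (Cfsg.oddCore G).Normal := pPrimeCore_normal 2 G
    set π := QuotientGroup.mk' (Cfsg.oddCore G) with hπ
    have hinj : Function.Injective (π.comp (S : Subgroup G).subtype) := by
      rw [injective_iff_map_eq_one]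
      intro y hy
      have hmem : (y : G) ∈ Cfsg.oddCore G := (QuotientGroup.eq_one_iff _).1 hy
      obtain ⟨m, hm⟩ := IsPGroup.iff_orderOf.1 S.2 y
      have h1 : orderOf (y : G) ∣ Nat.card (Cfsg.oddCore G) := by
        simpa [Subgroup.orderOf_mk] using orderOf_dvd_natCard (⟨(y : G), hmem⟩ : Cfsg.oddCore G)
      rw [Subgroup.orderOf_coe, hm] at h1
      exact orderOf_eq_one_iff.1 (hm.trans (Nat.eq_one_of_dvd_coprimes
        ((Nat.Coprime.symm (coprime_card_pPrimeCore (G := G) 2)).pow_left m) dvd_rfl h1))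
    set Sb := S.mapSurjective (QuotientGroup.mk'_surjective (Cfsg.oddCore G)) with hSb
    let f : (S : Subgroup G) ≃* (Sb : Subgroup (G ⧸ Cfsg.oddCore G)) := MulEquiv.ofBijective
      ((π.subgroupMap (S : Subgroup G)))
      ⟨fun a b h => hinj (congrArg Subtype.val h), π.subgroupMap_surjective _⟩
    have hcen := Cfsg.Agent.S0201.result Sb 0 ((f.symm.trans e)) (fun N hN hodd => by
      have := le_pPrimeCore (p := 2) (N := N) (hn := hN) (Nat.coprime_two_right.2 hodd)
      rwa [pPrimeCore_quotient_eq_bot, le_bot_iff] at this)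
    obtain ⟨⟨c, hc⟩, hco⟩ := exists_prime_orderOf_dvd_card' 2 hcen.symm.dvd
    rw [Subgroup.orderOf_mk] at hco
    haveI hCn : (zpowers c).Normal := ⟨fun y hy g => by
      obtain ⟨i, rfl⟩ := mem_zpowers_iff.1 hy
      have := mem_center_iff.1 ((center (G ⧸ Cfsg.oddCore G)).zpow_mem hc i) g
      rw [this, mul_inv_cancel_right]
      exact zpow_mem (mem_zpowers c) i⟩
    have hcS : c ∈ (Sb : Subgroup (G ⧸ Cfsg.oddCore G)) :=
      (IsPGroup.of_card (n := 1) (by rw [Nat.card_zpowers, hco, pow_one]) :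
        IsPGroup 2 (zpowers c)).le_sylow_of_normal Sb (mem_zpowers c)
    set d : (S : Subgroup G) := f.symm ⟨c, hcS⟩ with hd
    have hdo : orderOf d = 2 := by rw [hd, MulEquiv.orderOf_eq, Subgroup.orderOf_mk, hco]
    have hq : ∀ q r : QuaternionGroup 2, orderOf r = 2 → q ^ 2 ≠ 1 → q ^ 2 = r := by
      intro q r hr hq
      have h4 : ∀ y : QuaternionGroup 2, y * y = 1 ∨ y * y = QuaternionGroup.a 2 := by decide
      have h2 : ∀ y : QuaternionGroup 2, y * y = 1 → y ≠ 1 → y = QuaternionGroup.a 2 := by decide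
      rw [pow_two] at hq ⊢
      rw [(h4 q).resolve_left hq, h2 r (by rw [← pow_two]; exact orderOf_dvd_iff_pow_eq_one.1 hr.dvd)
        (fun h => by rw [h, orderOf_one] at hr; omega)]
    have heq : (⟨w, hwS⟩ : (S : Subgroup G)) ^ 2 = d := e.injective (by
      rw [map_pow]
      exact hq _ _ (by rw [MulEquiv.orderOf_eq, hdo]) (by rw [← map_pow]; exact fun h => hwS1 (e.map_eq_one_iff.1 h)))
    have hwc : π (w ^ 2) = c := by
      have : f ((⟨w, hwS⟩ : (S : Subgroup G)) ^ 2) = ⟨c, hcS⟩ := by rw [heq, hd, f.apply_symm_apply]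
      exact congrArg Subtype.val this
    have h1 : π x⁻¹ = π x := by
      rw [← hinv, map_mul, map_mul, map_inv, hwc, ← mem_center_iff.1 hc (π x), mul_inv_cancel_right]
    have h2 : π x ^ 2 = 1 := by
      rw [pow_two]
      nth_rewrite 1 [← h1]
      rw [map_inv, inv_mul_cancel]
    obtain ⟨m, hm⟩ := hxodd
    rw [← QuotientGroup.eq_one_iff]
    show π x = 1
    calc π x = π x * (π x ^ 2) ^ m := by rw [h2, one_pow, mul_one]
      _ = π (x ^ orderOf x) := by rw [map_pow, hm, ← pow_mul, ← pow_succ']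
      _ = 1 := by rw [pow_orderOf_eq_one, map_one]

/-- if some solvable normal subgroup has order divisible by `p`, exponent `p` forces an abelian Sylow subgroup -/
theorem abelian_of_solvable_normal (hD : Fused G) {p : ℕ} [hp : Fact p.Prime] (P : Sylow p G)
    (hexp : ∀ g : (P : Subgroup G), g ^ p = 1) {N : Subgroup G} [hN : N.Normal] [Group.IsSolvable N]
    {x : G} (hx : x ∈ N) (hxo : orderOf x = p) : IsMulCommutative (P : Subgroup G) := by
  haveI hOn : (pPrimeCore p G).Normal := pPrimeCore_normal p G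
  set π := QuotientGroup.mk' (pPrimeCore p G) with hπ
  have hnot : ∀ y : G, orderOf y = p → π y ≠ 1 := by
    intro y hy h
    have hmem : y ∈ pPrimeCore p G := (QuotientGroup.eq_one_iff _).1 h
    have h1 : p ∣ Nat.card (pPrimeCore p G) := by
      simpa [Subgroup.orderOf_mk, hy] using orderOf_dvd_natCard (⟨y, hmem⟩ : pPrimeCore p G)
    exact (hp.out.coprime_iff_not_dvd.1 (coprime_card_pPrimeCore (G := G) p).symm) h1
  set Nb := N.map π with hNb
  haveI hNbn : Nb.Normal := hN.map π (QuotientGroup.mk'_surjective _)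
  haveI : Group.IsSolvable Nb :=
    solvable_of_surjective (f := π.subgroupMap N) (π.subgroupMap_surjective N)
  obtain ⟨W, ⟨hWn, hWb, hWN⟩, hWmin⟩ := (Set.toFinite
    {W : Subgroup (G ⧸ pPrimeCore p G) | W.Normal ∧ W ≠ ⊥ ∧ W ≤ Nb}).exists_minimal
      ⟨Nb, hNbn, fun h => hnot x hxo (mem_bot.1 (h ▸ mem_map_of_mem π hx)), le_rfl⟩
  haveI := hWn
  have hWc : ⁅W, W⁆ = ⊥ := by
    by_contra hb
    have hle : ⁅W, W⁆ ≤ W := commutator_le_self W
    have hWW := hWmin ⟨inferInstance, hb, hle.trans hWN⟩ hle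
    haveI : Nontrivial W := (nontrivial_iff_ne_bot W).2 hWb
    haveI : Group.IsSolvable W := solvable_of_solvable_injective (f := inclusion hWN) (inclusion_injective hWN)
    have hlt := IsSolvable.commutator_lt_top_of_nontrivial W
    refine hlt.ne (eq_top_iff.2 fun v _ => ?_)
    have hv : (v : G ⧸ pPrimeCore p G) ∈ (commutator W).map W.subtype := by
      rw [map_subtype_commutator]; exact hWW v.2
    obtain ⟨v', hv', he⟩ := hv
    exact Subtype.ext he ▸ hv'
  have hWp : p ∣ Nat.card W := by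
    by_contra h
    have := le_pPrimeCore (p := p) (N := W) (hn := hWn) ((hp.out.coprime_iff_not_dvd.2 h).symm)
    rw [pPrimeCore_quotient_eq_bot, le_bot_iff] at this
    exact hWb this
  have hdiv : p ∣ Nat.card (W.comap π) := by
    refine hWp.trans ?_
    conv_lhs => rw [← map_comap_eq_self_of_surjective (QuotientGroup.mk'_surjective _) W]
    exact card_map_dvd _ _
  obtain ⟨⟨z, hz⟩, hzo⟩ := exists_prime_orderOf_dvd_card' p hdiv
  rw [Subgroup.orderOf_mk] at hzo
  have hall : ∀ y : (P : Subgroup G), π y ∈ W := by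
    intro y
    by_cases hy : y = 1
    · rw [hy, Subgroup.coe_one, map_one]; exact one_mem W
    · exact (hD.mem_of_order_prime hp.out (N := W.comap π) hz hzo
        (by rw [Subgroup.orderOf_coe]; exact orderOf_eq_prime (hexp y) hy) : (y : G) ∈ W.comap π)
  refine ⟨⟨fun a b => ?_⟩⟩
  by_contra hne
  set v := a * b * (b * a)⁻¹ with hv
  have hv1 : v ≠ 1 := fun h => hne (mul_inv_eq_one.1 h)
  refine hnot v (by rw [Subgroup.orderOf_coe]; exact orderOf_eq_prime (hexp v) hv1) ?_
  have hc := commutator_eq_bot_iff_le_centralizer.1 hWc (hall a)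
  rw [mem_centralizer_iff] at hc
  rw [hv, Subgroup.coe_mul, Subgroup.coe_inv, Subgroup.coe_mul, Subgroup.coe_mul, map_mul, map_inv, map_mul,
    map_mul, hc _ (hall b), mul_inv_cancel]

end Cfsg.Lib.FusedSylow
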